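import Cfsg.Agent.Lib.KnownB.Tits.Tables

/-!
All root elements of `F₄(2)` on bit vectors, the upper supports, and the parity functional of the
Sylow `2`-subgroup of `²F₄(2)`: it is additive on products of factors.
-/

set_option autoImplicit false
set_option maxRecDepth 100000
set_option linter.unusedSimpArgs false

namespace CfsgLib.KnownB.Tits

open Cfsg.Lie Matrix CfsgLib.Chev CfsgLib.Chev.F42 CfsgLib.Chev.F42.Two

/-- the sparse columns of all root elements -/
def fullTab : List (List (ℕ × ℕ)) := Tab.negTab ++ colTab

/-- a root element acting on a bit vector -/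
def appA (r x : ℕ) : ℕ :=
  (fullTab.getD r []).foldl (fun acc q => acc ^^^ (bif x.testBit q.1 then q.2 else 0)) x

/-- a word acting on a bit vector -/
def appAW (L : List ℕ) (x : ℕ) : ℕ := L.foldr appA x

theorem appA_xor (r x y : ℕ) : appA r (x ^^^ y) = appA r x ^^^ appA r y := foldl_xor_add _ x y x y

theorem appA_eq_appR {r : ℕ} (hr : isPosNum r = true) (x : ℕ) : appA r x = appR r x := by
  obtain ⟨h24, -⟩ : 24 ≤ r ∧ r < 48 := by simpa [isPosNum] using hr
  have hl : Tab.negTab.length = 24 := by decide +kernel
  rw [appA, appR, fullTab, List.getD_append_right _ _ _ _ (by omega), hl]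

theorem fullTab_small : ∀ L ∈ fullTab, ∀ q ∈ L, q.1 < 52 := by decide +kernel

/-- the columns agree with the sparse action -/
noncomputable def fullCheck : Bool :=
  (List.range 48).all fun r => (List.range 52).all fun c =>
    seqMod 2 (auxF4.appWord chevF4.rank chevF4.nroots [(r, 1)] [(c, 1)]) (bits (appA r (2 ^ c)))

theorem fullCheck_true : fullCheck = true := by decide +kernel

theorem appA_zero (r : ℕ) : appA r 0 = 0 := by
  have h := appA_xor r 0 0
  simpa using h

/-- induction on the bits of a bit vector -/
theorem bit_induction {P : ℕ → Prop} (h0 : P 0) (hx : ∀ a b, P a → P b → P (a ^^^ b)) :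
    ∀ v : ℕ, (∀ k, v.testBit k = true → P (2 ^ k)) → P v := by
  intro v
  induction v using Nat.binaryRec' generalizing P with
  | zero => exact fun _ => h0
  | bit b n _ ih =>
    intro hk
    have ih' : P (2 * n) := by
      refine ih (P := fun m => P (2 * m)) (by simpa using h0) (fun a c ha hc => ?_) fun k hk' => ?_
      · have e : 2 * (a ^^^ c) = 2 * a ^^^ 2 * c := by
          simpa [Nat.shiftLeft_eq, Nat.mul_comm] using (Nat.shiftLeft_xor_distrib (a := a) (b := c) (i := 1))
        show P (2 * (a ^^^ c))
        rw [e]
        exact hx _ _ ha hc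
      · have := hk (k + 1) (by rw [Nat.testBit_bit_succ]; exact hk')
        show P (2 * 2 ^ k)
        rwa [pow_succ, mul_comm] at this
    cases b
    · simpa [Nat.bit] using ih'
    · have h1 : P 1 := by simpa using hk 0 (by simp [Nat.testBit_bit_zero])
      have e : Nat.bit true n = 2 * n ^^^ 1 := by
        apply Nat.eq_of_testBit_eq
        intro i
        cases i with
        | zero => simp [Nat.testBit_bit_zero]
        | succ i =>
          rw [Nat.testBit_bit_succ, Nat.testBit_xor, Nat.testBit_succ, Nat.testBit_succ,
            show 2 * n / 2 = n by omega, show 1 / 2 = 0 from rfl, Nat.zero_testBit,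
            Bool.xor_false]
      rw [e]
      exact hx _ _ ih' h1

theorem sem_zero : sem 0 = 0 := funext fun i => by simp [sem]

theorem sem_appA {r : ℕ} (hr : r < 48) {x : ℕ} :
    sem (appA r x) = ((xx r (1 : K2) : GL chevF4.Idx K2) : Matrix chevF4.Idx chevF4.Idx K2) *ᵥ sem x := by
  set M := ((xx r (1 : K2) : GL chevF4.Idx K2) : Matrix chevF4.Idx chevF4.Idx K2) with hM
  refine bit_induction (P := fun v => sem (appA r v) = M *ᵥ sem v)
    (by simp [appA_zero, sem_zero]) (fun a b ha hb => ?_) x fun c _ => ?_
  · rw [appA_xor, sem_xor, sem_xor, mulVec_add, ha, hb]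
  · rcases lt_or_ge c 52 with hc | hc
    · have h := fullCheck_true
      simp only [fullCheck, List.all_eq_true, List.mem_range] at h
      have h1 := sval_eq_of_seqMod (F := K2) (ev chevF4 K2) (h r hr c hc)
      rw [sval_bits, sval_appWord stdF4.good (by simp; exact hr)] at h1
      have e := prod_xG_val (F := K2) stdF4.good [(r, 1)]
      simp only [List.map_cons, List.map_nil, List.prod_cons, List.prod_nil, mul_one] at e
      rw [← h1, sem_pow, hM, xx, e]
      simp [sval]
    · have h0 : sem (2 ^ c) = 0 := funext fun i => by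
        have hi : idx chevF4 i < 52 := idx_lt i
        simp [sem, Nat.testBit_two_pow, show c ≠ idx chevF4 i by omega]
      have h1 : appA r (2 ^ c) = 2 ^ c := by
        unfold appA
        have hL : ∀ q ∈ fullTab.getD r [], q.1 < 52 := by
          intro q hq
          rw [List.getD_eq_getElem?_getD] at hq
          cases hg : fullTab[r]? with
          | none => simp [hg] at hq
          | some L => exact fullTab_small L (List.mem_of_getElem? hg) q (by simpa [hg] using hq)
        generalize fullTab.getD r [] = L at hL ⊢
        induction L with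
        | nil => rfl
        | cons q L ih =>
          rw [List.foldl_cons, Nat.testBit_two_pow,
            decide_eq_false (by have := hL q List.mem_cons_self; omega)]
          simp only [cond_false, Nat.xor_zero]
          exact ih fun p hp => hL p (List.mem_cons_of_mem _ hp)
      show sem (appA r (2 ^ c)) = M *ᵥ sem (2 ^ c)
      rw [h1, h0, mulVec_zero]

theorem sem_appAW : ∀ {L : List ℕ}, (∀ r ∈ L, r < 48) → ∀ x, sem (appAW L x) =
    ((prodX L : GL chevF4.Idx K2) : Matrix chevF4.Idx chevF4.Idx K2) *ᵥ sem x
  | [], _, x => by simp [appAW, prodX]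
  | r :: L, h, x => by
    rw [show appAW (r :: L) x = appA r (appAW L x) from rfl, sem_appA (h r List.mem_cons_self),
      sem_appAW (fun s hs => h s (List.mem_cons_of_mem _ hs)), Matrix.mulVec_mulVec]
    simp [prodX]

theorem sem_testBit {a b : ℕ} (h : sem a = sem b) {c : ℕ} (hc : c < 52) :
    a.testBit c = b.testBit c := by
  obtain ⟨i, hi⟩ := exists_idx (D := chevF4) (c := c) hc
  have h' := congrFun h i
  simp only [sem, hi] at h'
  revert h'
  cases a.testBit c <;> cases b.testBit c <;> simp

theorem appW_eq_appAW : ∀ {L : List ℕ}, L.all isPosNum = true → ∀ x, appW L x = appAW L x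
  | [], _, _ => rfl
  | r :: L, h, x => by
    simp only [List.all_cons, Bool.and_eq_true] at h
    rw [show appW (r :: L) x = appR r (appW L x) from rfl, appW_eq_appAW h.2, ← appA_eq_appR h.1]
    rfl

theorem appW_xor : ∀ (L : List ℕ) (x y : ℕ), appW L (x ^^^ y) = appW L x ^^^ appW L y
  | [], _, _ => rfl
  | r :: L, x, y => by
    show appR r (appW L (x ^^^ y)) = appR r (appW L x) ^^^ appR r (appW L y)
    rw [appW_xor L, appR_xor]

/-- containment of bit vectors -/
def sub (x S : ℕ) : Bool := Nat.beq (x &&& S) x

theorem sub_iff {x S : ℕ} : sub x S = true ↔ ∀ i, x.testBit i = true → S.testBit i = true := by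
  rw [sub, Nat.beq_eq]
  constructor
  · intro h i hi
    have := congrArg (fun n => Nat.testBit n i) h
    simpa [Nat.testBit_and, hi] using this
  · intro h
    apply Nat.eq_of_testBit_eq
    intro i
    rw [Nat.testBit_and]
    cases hx : x.testBit i
    · rfl
    · simp [h i hx]

/-- the strict support -/
def str (c : ℕ) : ℕ := Tab.strict.getD c 0

/-- the closure properties of the supports -/
def strictOK : Bool :=
  ((List.range 24).all fun k => (List.range 52).all fun c =>
    sub (appR (k + 24) (2 ^ c) ^^^ 2 ^ c) (str c)) &&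
  (List.range 52).all fun c => Nat.blt (str c) (2 ^ 52) && !(str c).testBit c &&
    (List.range 52).all fun k => !(str c).testBit k || sub (str k) (str c)

theorem strict_ok : strictOK = true := by decide +kernel

theorem str_facts {c : ℕ} (hc : c < 52) :
    (∀ r, isPosNum r = true → sub (appR r (2 ^ c) ^^^ 2 ^ c) (str c) = true) ∧ str c < 2 ^ 52 ∧
      (str c).testBit c = false ∧ ∀ k < 52, (str c).testBit k = true → sub (str k) (str c) = true := by
  have h := strict_ok
  simp only [strictOK, Bool.and_eq_true, List.all_eq_true, List.mem_range, Nat.blt_eq,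
    Bool.not_eq_true', Bool.or_eq_true] at h
  obtain ⟨h1, h2⟩ := h
  refine ⟨fun r hr => ?_, (h2 c hc).1.1, (h2 c hc).1.2, fun k hk hb => ?_⟩
  · obtain ⟨h24, h48⟩ : 24 ≤ r ∧ r < 48 := by simpa [isPosNum] using hr
    simpa [show r - 24 + 24 = r by omega] using h1 (r - 24) (by omega) c hc
  · rcases (h2 c hc).2 k hk with h3 | h3
    · rw [hb] at h3; exact absurd h3 (by decide)
    · exact h3

theorem appW_sub {L : List ℕ} (hL : L.all isPosNum = true) {c : ℕ} (hc : c < 52) :
    sub (appW L (2 ^ c) ^^^ 2 ^ c) (str c) = true := by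
  induction L with
  | nil => simp [appW, sub]
  | cons r L ih =>
    simp only [List.all_cons, Bool.and_eq_true] at hL
    obtain ⟨h1, hlt, -, htr⟩ := str_facts hc
    have ih := sub_iff.1 (ih hL.2)
    set d := appW L (2 ^ c) ^^^ 2 ^ c with hd
    have e : appW (r :: L) (2 ^ c) ^^^ 2 ^ c = (appR r (2 ^ c) ^^^ 2 ^ c) ^^^ appR r d := by
      show appR r (appW L (2 ^ c)) ^^^ 2 ^ c = _
      rw [hd, appR_xor]
      apply Nat.eq_of_testBit_eq
      intro i
      simp only [Nat.testBit_xor]
      cases (appR r (appW L (2 ^ c))).testBit i <;> cases (appR r (2 ^ c)).testBit i <;>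
        cases (2 ^ c).testBit i <;> rfl
    rw [sub_iff, e]
    have key : ∀ v, (∀ k, v.testBit k = true → (str c).testBit k = true) →
        ∀ i, (appR r v).testBit i = true → (str c).testBit i = true := by
      intro v hv
      refine bit_induction (P := fun v => ∀ i, (appR r v).testBit i = true → (str c).testBit i = true)
        ?_ (fun a b ha hb i => ?_) v fun k hk i => ?_
      · rw [← appA_eq_appR hL.1, appA_zero]; simp
      · rw [appR_xor, Nat.testBit_xor]
        intro h
        cases hA : (appR r a).testBit i
        · rw [hA, Bool.false_xor] at h; exact hb i h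
        · exact ha i hA
      · intro hi
        have hk' := hv k hk
        have hk52 : k < 52 := by
          by_contra hge
          rw [Nat.testBit_lt_two_pow (lt_of_lt_of_le hlt
            (Nat.pow_le_pow_right (by norm_num) (not_lt.1 hge)))] at hk'
          exact absurd hk' (by decide)
        have h2 := sub_iff.1 ((str_facts hk52).1 r hL.1) i
        have h3 := sub_iff.1 (htr k hk52 hk') i
        rw [Nat.testBit_xor, hi, Nat.testBit_two_pow] at h2
        by_cases hki : k = i
        · rw [← hki]; exact hk'
        · exact h3 (h2 (by simp [hki]))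
    intro i hi
    rw [Nat.testBit_xor] at hi
    cases hA : (appR r (2 ^ c) ^^^ 2 ^ c).testBit i
    · rw [hA, Bool.false_xor] at hi; exact key d ih i hi
    · exact sub_iff.1 (h1 r hL.1) i hA

theorem testBit_str_self {L : List ℕ} (hL : L.all isPosNum = true) {c : ℕ} (hc : c < 52) {i : ℕ}
    (h : (appW L (2 ^ c)).testBit i = true) : i = c ∨ (str c).testBit i = true := by
  by_cases hic : i = c
  · exact Or.inl hic
  · refine Or.inr (sub_iff.1 (appW_sub hL hc) i ?_)
    simp [Nat.testBit_xor, h, Nat.testBit_two_pow, Ne.symm hic]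

theorem testBit_self {L : List ℕ} (hL : L.all isPosNum = true) {c : ℕ} (hc : c < 52) :
    (appW L (2 ^ c)).testBit c = true := by
  by_contra h
  have := sub_iff.1 (appW_sub hL hc) c (by simp [Nat.testBit_xor, Nat.testBit_two_pow, h])
  rw [(str_facts hc).2.2.1] at this
  exact absurd this (by decide)

/-- the parity functional -/
def par (L : List ℕ) : Bool :=
  xor (xor ((appW L (2 ^ 3)).testBit 45) ((appW L (2 ^ 26)).testBit 45))
    (xor ((appW L (2 ^ 29)).testBit 45) ((appW L (2 ^ 49)).testBit 50))

/-- the vectors reaching a row are recorded -/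
def maskOK : Bool :=
  Tab.rowMask.all fun q => Nat.blt q.1 52 && (List.range 52).all fun k =>
    !(Nat.beq k q.1 || (str k).testBit q.1) || q.2.testBit k

theorem mask_ok : maskOK = true := by decide +kernel

/-- the change of the first row -/
def res45 (M : List ℕ) : ℕ :=
  (appW M (2 ^ 3) ^^^ 2 ^ 3) ^^^ (appW M (2 ^ 26) ^^^ 2 ^ 26) ^^^ (appW M (2 ^ 29) ^^^ 2 ^ 29)

/-- the change of the second row -/
def res50 (M : List ℕ) : ℕ := appW M (2 ^ 49) ^^^ 2 ^ 49

/-- the functional changes by the recorded parity along a factor -/
def stepCheck (M : List ℕ) (b : Bool) : Bool :=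
  M.all isPosNum && Nat.blt (res45 M) (2 ^ 52) && Nat.blt (res50 M) (2 ^ 52) &&
    sub (res45 M &&& (Tab.rowMask.getD 0 (0, 0)).2) (2 ^ 45) &&
    sub (res50 M &&& (Tab.rowMask.getD 1 (0, 0)).2) (2 ^ 50) &&
    (xor ((res45 M).testBit 45) ((res50 M).testBit 50) == b)

/-- the factors -/
noncomputable def fac : List (List (List ℕ × Bool)) := facs seq []

/-- all factors pass -/
noncomputable def stepsOK : Bool := fac.all fun o => o.all fun x => stepCheck x.1 x.2

theorem steps_ok : stepsOK = true := by decide +kernel

theorem testBit_row {L : List ℕ} (hL : L.all isPosNum = true) {q : ℕ × ℕ} (hq : q ∈ Tab.rowMask)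
    {v : ℕ} (hlt : v < 2 ^ 52) (hv : sub (v &&& q.2) (2 ^ q.1) = true) :
    (appW L v).testBit q.1 = v.testBit q.1 := by
  have h := mask_ok
  simp only [maskOK, List.all_eq_true, Bool.and_eq_true, Nat.blt_eq, List.mem_range,
    Bool.or_eq_true, Bool.not_eq_true'] at h
  obtain ⟨hq52, hm⟩ := h q hq
  refine bit_induction (P := fun v => (appW L v).testBit q.1 = v.testBit q.1) ?_
    (fun a b ha hb => by simp only [appW_xor, Nat.testBit_xor, ha, hb]) v fun k hk => ?_
  · have e := appW_xor L 0 0
    simp only [Nat.xor_self, Nat.zero_xor] at e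
    simp [e]
  · have hk52 : k < 52 := by
      by_contra hge
      rw [Nat.testBit_lt_two_pow (lt_of_lt_of_le hlt
        (Nat.pow_le_pow_right (by norm_num) (not_lt.1 hge)))] at hk
      exact absurd hk (by decide)
    by_cases hkq : k = q.1
    · rw [hkq, testBit_self hL hq52, Nat.testBit_two_pow]
      simp
    · have hnot : q.2.testBit k = false := by
        cases hb : q.2.testBit k
        · rfl
        · have := sub_iff.1 hv k (by simp [Nat.testBit_and, hk, hb])
          simp [Nat.testBit_two_pow, Ne.symm hkq] at this
      rw [Nat.testBit_two_pow, decide_eq_false hkq]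
      by_contra hne
      rcases hm k hk52 with h1 | h1
      · simp only [Bool.or_eq_false_iff] at h1
        rcases testBit_str_self hL hk52 (Bool.eq_true_of_not_eq_false hne) with h2 | h2
        · exact hkq h2.symm
        · rw [h1.2] at h2; exact absurd h2 (by decide)
      · rw [hnot] at h1; exact absurd h1 (by decide)

theorem par_append {L M : List ℕ} {b : Bool} (hL : L.all isPosNum = true)
    (hM : stepCheck M b = true) : par (L ++ M) = xor (par L) b := by
  simp only [stepCheck, Bool.and_eq_true, Nat.blt_eq, beq_iff_eq] at hM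
  obtain ⟨⟨⟨⟨⟨-, l1⟩, l2⟩, h45⟩, h50⟩, hb⟩ := hM
  have e45 := testBit_row hL (q := Tab.rowMask.getD 0 (0, 0)) (by decide) l1 h45
  have e50 := testBit_row hL (q := Tab.rowMask.getD 1 (0, 0)) (by decide) l2 h50
  simp only [show (Tab.rowMask.getD 0 (0, 0)).1 = 45 from rfl, res45, appW_xor,
    Nat.testBit_xor] at e45
  simp only [show (Tab.rowMask.getD 1 (0, 0)).1 = 50 from rfl, res50, appW_xor,
    Nat.testBit_xor] at e50
  rw [← hb]
  simp only [par, appW_append, res45, res50, Nat.testBit_xor]
  revert e45 e50
  generalize (appW L (appW M (2 ^ 3))).testBit 45 = a1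
  generalize (appW L (appW M (2 ^ 26))).testBit 45 = a2
  generalize (appW L (appW M (2 ^ 29))).testBit 45 = a3
  generalize (appW L (appW M (2 ^ 49))).testBit 50 = a4
  generalize (appW L (2 ^ 3)).testBit 45 = b1
  generalize (appW L (2 ^ 26)).testBit 45 = b2
  generalize (appW L (2 ^ 29)).testBit 45 = b3
  generalize (appW L (2 ^ 49)).testBit 50 = b4
  intro e45 e50
  rw [← e45, ← e50]
  cases a1 <;> cases a2 <;> cases a3 <;> cases a4 <;> cases b1 <;> cases b2 <;> cases b3 <;>
    cases b4 <;> rfl

theorem par_nil : par [] = false := by decide +kernel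

theorem par_append_sel : ∀ {F : List (List (List ℕ × Bool))} {M : List ℕ} {b : Bool}, Sel F M b →
    (F.all fun o => o.all fun x => stepCheck x.1 x.2) = true → ∀ {L : List ℕ},
    L.all isPosNum = true → par (L ++ M) = xor (par L) b := by
  intro F M b h
  induction h with
  | nil => intro _ L _; simp
  | @cons o r x M c hx _ ih =>
    intro hF L hL
    simp only [List.all_cons, Bool.and_eq_true] at hF
    have hxc : stepCheck x.1 x.2 = true := List.all_eq_true.1 hF.1 x hx
    have hxp : x.1.all isPosNum = true := by
      simp only [stepCheck, Bool.and_eq_true] at hxc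
      exact hxc.1.1.1.1.1
    rw [← List.append_assoc, ih hF.2 (by rw [List.all_append, hL, hxp]; rfl), par_append hL hxc,
      Bool.xor_assoc]

theorem par_sel {M : List ℕ} {b : Bool} (h : Sel fac M b) : par M = b := by
  simpa [par_nil] using par_append_sel h steps_ok (L := []) rfl

/-- the functional is additive -/
theorem par_mul {L M : List ℕ} {b : Bool} (hL : L.all isPosNum = true) (h : Sel fac M b) :
    par (L ++ M) = xor (par L) (par M) := by
  rw [par_sel h, par_append_sel h steps_ok hL]

end CfsgLib.KnownB.Tits
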