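import Cfsg.Agent.Lib.KnownB.Tits.Bits
import Cfsg.Agent.Lib.KnownB.Mult.Levels
import Cfsg.Agent.Lib.Chev.Tits2.Main

/-!
Computable codes for elements of the Tits group: `52` columns of bit vectors, with membership given
by straight-line programs in eight generators.
-/

set_option autoImplicit false
set_option maxRecDepth 100000
set_option linter.unusedSimpArgs false

namespace CfsgLib.KnownB.Tits

open Cfsg.Lie Matrix CfsgLib.Chev CfsgLib.Chev.F42 CfsgLib.Chev.F42.Two

/-- a matrix applied to a bit vector -/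
def appM : List ℕ → ℕ → ℕ
  | [], _ => 0
  | a :: l, v => (bif Nat.beq (v % 2) 1 then a else 0) ^^^ appM l (v / 2)

theorem appM_lt : ∀ (l : List ℕ) (v : ℕ), (∀ a ∈ l, a < 2 ^ 52) → appM l v < 2 ^ 52
  | [], _, _ => Nat.two_pow_pos 52
  | a :: l, v, h => by
    rw [appM]
    refine Nat.xor_lt_two_pow ?_ (appM_lt l _ fun b hb => h b (List.mem_cons_of_mem _ hb))
    cases Nat.beq (v % 2) 1
    · exact Nat.two_pow_pos 52
    · exact h a List.mem_cons_self

theorem beq_mod_two (v : ℕ) : Nat.beq (v % 2) 1 = v.testBit 0 := by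
  rw [Nat.testBit_zero]
  rcases Nat.mod_two_eq_zero_or_one v with h | h <;> rw [h] <;> rfl

theorem appM_xor : ∀ (l : List ℕ) (v w : ℕ), appM l (v ^^^ w) = appM l v ^^^ appM l w
  | [], _, _ => by simp [appM]
  | a :: l, v, w => by
    simp only [appM, beq_mod_two, Nat.testBit_xor, Nat.xor_div_two, appM_xor l]
    cases v.testBit 0 <;> cases w.testBit 0 <;> apply Nat.eq_of_testBit_eq <;> intro i <;>
      simp only [Nat.testBit_xor, cond_true, cond_false, Bool.xor_self, Bool.xor_false,
        Bool.false_xor, Bool.true_xor, Bool.not_true, Bool.not_false, Nat.zero_testBit] <;>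
      cases a.testBit i <;> cases (appM l (v / 2)).testBit i <;>
      cases (appM l (w / 2)).testBit i <;> rfl

theorem appM_zero : ∀ l : List ℕ, appM l 0 = 0
  | [] => rfl
  | a :: l => by
    rw [appM, Nat.zero_div, appM_zero l, beq_mod_two, Nat.zero_testBit]
    simp

theorem appM_pow : ∀ (l : List ℕ) (k : ℕ), appM l (2 ^ k) = l.getD k 0
  | [], _ => by simp [appM]
  | a :: l, 0 => by simp [appM, appM_zero]
  | a :: l, k + 1 => by
    have e : (2 ^ (k + 1)) % 2 = 0 := by rw [pow_succ]; omega
    have e2 : 2 ^ (k + 1) / 2 = 2 ^ k := by rw [pow_succ]; omega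
    simp [appM, beq_mod_two, e2, appM_pow l k, Nat.testBit_two_pow]

/-- product -/
def mulM (A B : List ℕ) : List ℕ := B.map (appM A)

/-- equality test -/
def eqL : List ℕ → List ℕ → Bool
  | [], [] => true
  | a :: A, b :: B => Nat.beq a b && eqL A B
  | _, _ => false

theorem eqL_iff : ∀ {A B : List ℕ}, eqL A B = true ↔ A = B
  | [], [] => by simp [eqL]
  | [], b :: B => by simp [eqL]
  | a :: A, [] => by simp [eqL]
  | a :: A, b :: B => by simp [eqL, eqL_iff (A := A) (B := B)]

/-- a list of columns represents a matrix -/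
structure Rep (M : Matrix chevF4.Idx chevF4.Idx K2) (x : List ℕ) : Prop where
  len : x.length = 52
  lt : ∀ a ∈ x, a < 2 ^ 52
  col : ∀ c < 52, sem (x.getD c 0) = M *ᵥ sem (2 ^ c)

theorem Rep.sem_appM {M : Matrix chevF4.Idx chevF4.Idx K2} {x : List ℕ} (h : Rep M x) {v : ℕ}
    (hv : v < 2 ^ 52) : sem (appM x v) = M *ᵥ sem v := by
  refine bit_induction (P := fun v => sem (appM x v) = M *ᵥ sem v)
    (by simp [appM_zero, sem_zero]) (fun a b ha hb => ?_) v fun k hk => ?_
  · rw [appM_xor, sem_xor, sem_xor, mulVec_add, ha, hb]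
  · have hk52 : k < 52 := by
      by_contra hge
      rw [Nat.testBit_lt_two_pow (lt_of_lt_of_le hv
        (Nat.pow_le_pow_right (by norm_num) (not_lt.1 hge)))] at hk
      exact absurd hk (by decide)
    show sem (appM x (2 ^ k)) = M *ᵥ sem (2 ^ k)
    rw [appM_pow, h.col k hk52]

theorem Rep.mul {M N : Matrix chevF4.Idx chevF4.Idx K2} {x y : List ℕ} (hx : Rep M x)
    (hy : Rep N y) : Rep (M * N) (mulM x y) := by
  refine ⟨by rw [mulM, List.length_map, hy.len], fun a ha => ?_, fun c hc => ?_⟩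
  · obtain ⟨b, -, rfl⟩ := List.mem_map.1 ha
    exact appM_lt x b hx.lt
  · have hc' : c < y.length := by rw [hy.len]; exact hc
    have hlt : y.getD c 0 < 2 ^ 52 := by
      rw [List.getD_eq_getElem _ _ hc']; exact hy.lt _ (List.getElem_mem hc')
    have e : (mulM x y).getD c 0 = appM x (y.getD c 0) := by
      rw [mulM, List.getD_eq_getElem _ _ (by simpa using hc'), List.getD_eq_getElem _ _ hc',
        List.getElem_map]
    rw [e, hx.sem_appM hlt, hy.col c hc, mulVec_mulVec]

theorem sem_inj {a b : ℕ} (ha : a < 2 ^ 52) (hb : b < 2 ^ 52) (h : sem a = sem b) : a = b := by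
  apply Nat.eq_of_testBit_eq
  intro i
  by_cases hi : i < 52
  · exact sem_testBit h hi
  · have h2 : 2 ^ 52 ≤ 2 ^ i := Nat.pow_le_pow_right (by norm_num) (not_lt.1 hi)
    rw [Nat.testBit_lt_two_pow (lt_of_lt_of_le ha h2), Nat.testBit_lt_two_pow (lt_of_lt_of_le hb h2)]

theorem Rep.eq_iff {M N : Matrix chevF4.Idx chevF4.Idx K2} {x y : List ℕ} (hx : Rep M x)
    (hy : Rep N y) : x = y ↔ M = N := by
  constructor
  · rintro rfl
    ext i j
    have hj : idx chevF4 j < 52 := idx_lt j
    have e := (hx.col _ hj).symm.trans (hy.col _ hj)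
    have hs : sem (2 ^ idx chevF4 j) = Pi.single j 1 := by
      funext k
      simp only [sem, Nat.testBit_two_pow, decide_eq_true_eq, Pi.single_apply]
      by_cases hk : k = j
      · simp [hk]
      · simp [hk, show idx chevF4 j ≠ idx chevF4 k from fun h => hk (idx_inj h.symm)]
    have := congrFun e i
    rwa [hs, mulVec_single_one, mulVec_single_one] at this
  · rintro rfl
    refine List.ext_getElem (by rw [hx.len, hy.len]) fun c hc hc' => ?_
    have h52 : c < 52 := by rw [← hx.len]; exact hc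
    have e := (hx.col c h52).trans (hy.col c h52).symm
    rw [List.getD_eq_getElem _ _ hc, List.getD_eq_getElem _ _ hc'] at e
    exact sem_inj (hx.lt _ (List.getElem_mem hc)) (hy.lt _ (List.getElem_mem hc')) e

/-- the columns of a word in root elements -/
def wordCols (w : List ℕ) : List ℕ := (List.range 52).map fun c => appAW w (2 ^ c)

theorem rep_wordCols {w : List ℕ} (hw : (w.all fun r => Nat.blt r 48) = true)
    (hlt : ((wordCols w).all fun a => Nat.blt a (2 ^ 52)) = true) :
    Rep ((prodX w : GL chevF4.Idx K2) : Matrix chevF4.Idx chevF4.Idx K2) (wordCols w) := by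
  simp only [List.all_eq_true, Nat.blt_eq] at hw hlt
  refine ⟨by simp [wordCols], hlt, fun c hc => ?_⟩
  rw [← sem_appAW hw (2 ^ c), wordCols, List.getD_eq_getElem _ _ (by simpa using hc),
    List.getElem_map, List.getElem_range]

/-- the identity -/
def oneM : List ℕ := wordCols []

/-- the generators as words in root elements -/
def genW : List (List ℕ) :=
  [[33, 24], [14, 23], [28, 30], [19, 17], [27, 25, 28, 33, 24, 28, 25, 27],
    [27, 25, 28, 19, 17, 28, 25, 27], [20, 22, 19, 33, 24, 19, 22, 20],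
    [20, 22, 19, 28, 30, 19, 22, 20]]

/-- the group -/
abbrev Q : Type := TitsGroup

/-- the matrix of an element -/
noncomputable def toGL : Q →* GL chevF4.Idx K2 :=
  (twistedF4 K2 1).subtype.comp (commutator ↥(twistedF4 K2 1)).subtype

theorem toGL_injective : Function.Injective toGL :=
  (Subgroup.subtype_injective _).comp (Subgroup.subtype_injective _)

theorem mem_of_involution {y : GL chevF4.Idx K2} (hy : y ∈ twistedF4 K2 1) (h2 : y * y = 1)
    (h1 : y ≠ 1) : ∃ g : Q, toGL g = y := by
  have ho : orderOf (⟨y, hy⟩ : ↥(twistedF4 K2 1)) = 2 :=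
    orderOf_eq_prime (Subtype.ext (by rw [SubmonoidClass.coe_pow, pow_two]; exact h2))
      fun e => h1 (congrArg Subtype.val e)
  exact ⟨⟨⟨y, hy⟩, involution_mem _ ho⟩, rfl⟩

theorem ne_one_of_cols {w : List ℕ} (hw : (w.all fun r => Nat.blt r 48) = true) {c : ℕ}
    (hc : c < 52) (h : Nat.beq (appAW w (2 ^ c) % 2 ^ 52) (2 ^ c) = false) : prodX w ≠ 1 := by
  intro e
  simp only [List.all_eq_true, Nat.blt_eq] at hw
  have := sem_appAW hw (2 ^ c)
  rw [e, Units.val_one, one_mulVec] at this
  have h1 : appAW w (2 ^ c) % 2 ^ 52 = 2 ^ c := by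
    apply Nat.eq_of_testBit_eq
    intro k
    rw [Nat.testBit_mod_two_pow]
    by_cases hk : k < 52
    · simp [hk, sem_testBit this hk]
    · simp [hk, Nat.testBit_two_pow, show c ≠ k by omega]
  rw [h1, show Nat.beq (2 ^ c) (2 ^ c) = true by rw [Nat.beq_eq]] at h
  exact absurd h (by decide)

theorem xx_cancel (r : ℕ) : xx r (1 : K2) * xx r 1 = 1 := xx_sq r

theorem conj_word (p w : List ℕ) :
    prodX (p ++ w ++ p.reverse) = prodX p * prodX w * (prodX p)⁻¹ := by
  rw [prodX_append, prodX_append, prodX_reverse]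

theorem exists_conj {p w : List ℕ} (hp : prodX p ∈ twistedF4 K2 1)
    (h : ∃ g : Q, toGL g = prodX w) : ∃ g : Q, toGL g = prodX (p ++ w ++ p.reverse) := by
  obtain ⟨g, hg⟩ := h
  let a : ↥(twistedF4 K2 1) := ⟨_, hp⟩
  refine ⟨⟨a * g.1 * a⁻¹, (inferInstance : (commutator ↥(twistedF4 K2 1)).Normal).conj_mem _ g.2 a⟩, ?_⟩
  rw [conj_word, ← hg]
  rfl

theorem twisted_mem : prodX [33, 24] ∈ twistedF4 K2 1 ∧ prodX [14, 23] ∈ twistedF4 K2 1 ∧
    prodX [28, 30] ∈ twistedF4 K2 1 ∧ prodX [19, 17] ∈ twistedF4 K2 1 ∧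
    prodX [27, 25, 28] ∈ twistedF4 K2 1 ∧ prodX [20, 22, 19] ∈ twistedF4 K2 1 := by
  refine ⟨?_, ?_, ?_, ?_, ?_, ?_⟩
  · simpa [prodX] using word_pair (K := K2) hσ 1
  · simpa [prodX] using word_npair (K := K2) hσ 1
  · rw [← W_eq_prodX.2.2.1]; exact word_W hσ 0 1
  · have := word_nW (K := K2) hσ 0 1
    simpa [quad, prodX, xG_zero, mul_assoc] using this
  · rw [← W_eq_prodX.2.1]; exact word_W hσ 1 0
  · have := word_nW (K := K2) hσ 1 0
    simpa [quad, prodX, xG_zero, mul_assoc] using this

/-- squares of the first four generators -/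
def sqOK : Bool :=
  (genW.take 4).all fun w => eqL (wordCols (w ++ w)) oneM

theorem sq_ok : sqOK = true := by decide +kernel

theorem prodX_sq_of {w : List ℕ} (hw : w ∈ genW.take 4)
    (hb : ((w ++ w).all fun r => Nat.blt r 48) = true)
    (hl : ((wordCols (w ++ w)).all fun a => Nat.blt a (2 ^ 52)) = true) :
    prodX w * prodX w = 1 := by
  have h := sq_ok
  simp only [sqOK, List.all_eq_true, eqL_iff] at h
  have e := ((rep_wordCols hb hl).eq_iff (rep_wordCols (w := []) rfl (by decide +kernel))).1 (h w hw)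
  rw [← prodX_append]
  exact Units.ext e

theorem exists_gen : ∀ w ∈ genW, ∃ g : Q, toGL g = prodX w := by
  obtain ⟨tp, tm, tz, ty, ta, tb⟩ := twisted_mem
  have gp : ∃ g : Q, toGL g = prodX [33, 24] := mem_of_involution tp
    (prodX_sq_of (by decide) (by decide) (by decide +kernel))
    (ne_one_of_cols (c := 2) (by decide) (by norm_num) (by decide +kernel))
  have gm : ∃ g : Q, toGL g = prodX [14, 23] := mem_of_involution tm
    (prodX_sq_of (by decide) (by decide) (by decide +kernel))
    (ne_one_of_cols (c := 2) (by decide) (by norm_num) (by decide +kernel))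
  have gz : ∃ g : Q, toGL g = prodX [28, 30] := mem_of_involution tz
    (prodX_sq_of (by decide) (by decide) (by decide +kernel))
    (ne_one_of_cols (c := 2) (by decide) (by norm_num) (by decide +kernel))
  have gy : ∃ g : Q, toGL g = prodX [19, 17] := mem_of_involution ty
    (prodX_sq_of (by decide) (by decide) (by decide +kernel))
    (ne_one_of_cols (c := 2) (by decide) (by norm_num) (by decide +kernel))
  intro w hw
  simp only [genW, List.mem_cons, List.not_mem_nil, or_false] at hw
  rcases hw with rfl | rfl | rfl | rfl | rfl | rfl | rfl | rfl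
  · exact gp
  · exact gm
  · exact gz
  · exact gy
  · rw [show ([27, 25, 28, 33, 24, 28, 25, 27] : List ℕ) =
      [27, 25, 28] ++ [33, 24] ++ [27, 25, 28].reverse by decide]
    exact exists_conj ta gp
  · rw [show ([27, 25, 28, 19, 17, 28, 25, 27] : List ℕ) =
      [27, 25, 28] ++ [19, 17] ++ [27, 25, 28].reverse by decide]
    exact exists_conj ta gy
  · rw [show ([20, 22, 19, 33, 24, 19, 22, 20] : List ℕ) =
      [20, 22, 19] ++ [33, 24] ++ [20, 22, 19].reverse by decide]
    exact exists_conj tb gp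
  · rw [show ([20, 22, 19, 28, 30, 19, 22, 20] : List ℕ) =
      [20, 22, 19] ++ [28, 30] ++ [20, 22, 19].reverse by decide]
    exact exists_conj tb gz

/-- representation of group elements -/
def RepQ (g : Q) (x : List ℕ) : Prop :=
  Rep ((toGL g : GL chevF4.Idx K2) : Matrix chevF4.Idx chevF4.Idx K2) x

theorem repQ_mul {g h : Q} {x y : List ℕ} (hx : RepQ g x) (hy : RepQ h y) :
    RepQ (g * h) (mulM x y) := by
  rw [RepQ, map_mul, Units.val_mul]
  exact Rep.mul hx hy

theorem repQ_one : RepQ 1 oneM := by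
  have := rep_wordCols (w := []) rfl (by decide +kernel)
  rwa [RepQ, map_one]

/-- a step of a straight-line program: a generator, or the product of two earlier entries -/
def stepOK (T : List (List ℕ)) (k : ℕ) (s : ℕ × ℕ × ℕ) : Bool :=
  bif Nat.beq s.1 0 then
    eqL (T.getD k []) (wordCols (genW.getD s.2.1 [])) &&
      ((wordCols (genW.getD s.2.1 [])).all fun a => Nat.blt a (2 ^ 52)) &&
      ((genW.getD s.2.1 []).all fun r => Nat.blt r 48)
  else Nat.blt s.2.1 k && Nat.blt s.2.2 k &&
    eqL (T.getD k []) (mulM (T.getD s.2.1 []) (T.getD s.2.2 []))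

/-- a program computing a table -/
def slpOK (T : List (List ℕ)) (P : List (ℕ × ℕ × ℕ)) : Bool :=
  Nat.beq T.length P.length && (List.range T.length).all fun k => stepOK T k (P.getD k (0, 0, 0))

theorem exists_of_slp {T : List (List ℕ)} {P : List (ℕ × ℕ × ℕ)} (h : slpOK T P = true) :
    ∀ {k : ℕ}, k < T.length → ∃ g : Q, RepQ g (T.getD k []) := by
  simp only [slpOK, Bool.and_eq_true, List.all_eq_true, List.mem_range] at h
  intro k
  induction k using Nat.strong_induction_on with
  | _ k ih =>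
    intro hk
    have hs := h.2 k hk
    rw [stepOK] at hs
    cases hb : Nat.beq (P.getD k (0, 0, 0)).1 0
    · simp only [hb, cond_false, Bool.and_eq_true, Nat.blt_eq, eqL_iff] at hs
      obtain ⟨⟨ha, hc⟩, e⟩ := hs
      obtain ⟨g, hg⟩ := ih _ ha (lt_trans ha hk)
      obtain ⟨g', hg'⟩ := ih _ hc (lt_trans hc hk)
      exact ⟨g * g', by rw [e]; exact repQ_mul hg hg'⟩
    · simp only [hb, cond_true, Bool.and_eq_true, eqL_iff] at hs
      obtain ⟨⟨e, hlt⟩, hr⟩ := hs
      by_cases hi : (P.getD k (0, 0, 0)).2.1 < genW.length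
      · obtain ⟨g, hg⟩ := exists_gen (genW.getD (P.getD k (0, 0, 0)).2.1 [])
          (by rw [List.getD_eq_getElem _ _ hi]; exact List.getElem_mem hi)
        refine ⟨g, ?_⟩
        rw [e, RepQ, hg]
        exact rep_wordCols hr hlt
      · refine ⟨1, ?_⟩
        rw [e, List.getD_eq_default _ _ (not_lt.1 hi)]
        exact repQ_one

/-- the code attached to a table -/
noncomputable def code (T : List (List ℕ)) (P : List (ℕ × ℕ × ℕ)) (h : slpOK T P = true) :
    Mult.Code Q (List ℕ) where
  rep := RepQ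
  mul := mulM
  one := oneM
  eqc := eqL
  okc x := T.any (eqL x)
  rep_mul := repQ_mul
  rep_one := repQ_one
  eq_iff {a b x y} ha hb := by
    rw [eqL_iff, Rep.eq_iff ha hb]
    exact ⟨fun e => toGL_injective (Units.ext e), fun e => by rw [e]⟩
  exists_rep {x} hx := by
    obtain ⟨y, hy, he⟩ := List.any_eq_true.1 hx
    rw [eqL_iff] at he
    subst he
    obtain ⟨k, hk, rfl⟩ := List.getElem_of_mem hy
    rw [← List.getD_eq_getElem _ [] hk]
    exact exists_of_slp h hk

/-- a code applied to a point -/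
def appP (x : List ℕ) (v : ℕ) : ℕ := bif Nat.blt v (2 ^ 52) then appM x v else v

/-- the bit vector of a vector -/
noncomputable def encV (f : chevF4.Idx → K2) : ℕ :=
  if h : ∃ v < 2 ^ 52, sem v = f then h.choose else 0

theorem encV_sem {v : ℕ} (hv : v < 2 ^ 52) : encV (sem v) = v := by
  have h : ∃ w < 2 ^ 52, sem w = sem v := ⟨v, hv, rfl⟩
  rw [encV, dif_pos h]
  exact sem_inj h.choose_spec.1 hv h.choose_spec.2

theorem exists_sem (f : chevF4.Idx → K2) : ∃ v < 2 ^ 52, sem v = f := by
  classical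
  refine ⟨Nat.ofBits fun c : Fin 52 => decide (∃ i, idx chevF4 i = c.val ∧ f i = 1),
    Nat.ofBits_lt_two_pow _, funext fun i => ?_⟩
  have hi : idx chevF4 i < 52 := idx_lt i
  simp only [sem]
  rw [Nat.testBit_ofBits_lt _ _ hi]
  simp only [decide_eq_true_eq]
  have h01 : ∀ x : K2, x ≠ 1 → x = 0 := by decide
  by_cases hf : f i = 1
  · rw [if_pos ⟨i, rfl, hf⟩, hf]
  · rw [if_neg, h01 _ hf]
    rintro ⟨j, hj, hfj⟩
    exact hf (idx_inj hj ▸ hfj)

theorem encV_spec (f : chevF4.Idx → K2) : encV f < 2 ^ 52 ∧ sem (encV f) = f := by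
  rw [encV, dif_pos (exists_sem f)]
  exact (exists_sem f).choose_spec

/-- the action on bit vectors -/
noncomputable def ptAct : Mult.PtAct Q ℕ where
  act g v := if v < 2 ^ 52 then
    encV (((toGL g : GL chevF4.Idx K2) : Matrix chevF4.Idx chevF4.Idx K2) *ᵥ sem v) else v
  act_mul g h v := by
    by_cases hv : v < 2 ^ 52
    · have h1 := encV_spec (((toGL h : GL chevF4.Idx K2) : Matrix chevF4.Idx chevF4.Idx K2) *ᵥ sem v)
      simp only [if_pos hv, if_pos h1.1, h1.2, mulVec_mulVec, ← Units.val_mul, ← map_mul]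
    · simp only [if_neg hv]
  act_one v := by
    by_cases hv : v < 2 ^ 52
    · simp [if_pos hv, encV_sem hv]
    · simp only [if_neg hv]

theorem ptAct_app {g : Q} {x : List ℕ} (h : RepQ g x) (v : ℕ) : ptAct.act g v = appP x v := by
  simp only [ptAct, appP]
  by_cases hv : v < 2 ^ 52
  · rw [if_pos hv, show Nat.blt v (2 ^ 52) = true by rw [Nat.blt_eq]; exact hv, cond_true, ← Rep.sem_appM h hv]
    exact encV_sem (appM_lt _ _ h.lt)
  · have hb : Nat.blt v (2 ^ 52) = false := by
      rw [← Bool.not_eq_true, Nat.blt_eq]; exact hv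
    rw [if_neg hv, hb, cond_false]

instance : Finite Q :=
  haveI : Finite (GL chevF4.Idx K2) := finite_GL
  Finite.of_injective toGL toGL_injective

/-- the Sylow condition from a certificate with transversal levels -/
theorem primeCond_of_tables {T : List (List ℕ)} {P : List (ℕ × ℕ × ℕ)} {h : slpOK T P = true}
    {p : ℕ} [Fact p.Prime] (c : Mult.Cert (List ℕ)) (hc : c.Core (code T P h) p)
    (L : List (ℕ × List (List ℕ))) (hL : Mult.Cert.levelsOK (code T P h) c appP Nat.beq L [] = true)
    (hprod : p ^ c.n ≤ (L.map fun l => l.2.length).prod) {m : ℕ}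
    (hN : Nat.card Q = p ^ c.n * m) (hm : ¬ p ∣ m) : Mult.PrimeCond Q p :=
  Mult.Cert.primeCond_of_notMem hc
    (Mult.Cert.notMem_of_levels hc ptAct appP Nat.beq (fun h v => ptAct_app h v)
      (fun _ _ => Nat.beq_eq ▸ Iff.rfl) L hL hprod) hN hm

end CfsgLib.KnownB.Tits
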